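/-
Dimension five: the 2-core below a class of 3-transpositions is elementary abelian.
-/
import Cfsg.Agent.H92.TwoCore.Seven

set_option autoImplicit false

namespace H5.TT.Five

open Matrix Cfsg H50 H92.TCore
open H50.RadFrame (pperp)
open H50.PointStab (stab stab2)

universe u

variable {F : Type} [Field F] [Fintype F] {G : Type u} [Group G] [Finite G] {D : Set G}

/-- A core element centralising one `Ed` centralises the base. -/
theorem base_fixed_of_ed (hT : Data D) {e q : G} (he : e ∈ D) (hq : q ∈ pCore 2 G)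
    (h : ∀ x ∈ Ed D e, Commute q x) {x : G} (hx : x ∈ base hT.cls) : Commute q x := by
  have hD := hT.cls
  induction hx using Subgroup.closure_induction with
  | mem y hy =>
    obtain ⟨c, hc, hy⟩ := hy
    obtain ⟨g, hg⟩ := H99.class_isConj hD he hc
    have hy' : g⁻¹ * y * g ∈ Ed D e := by
      have := ed_conj hD g⁻¹ hy
      rwa [inv_inv, ← hg, show g⁻¹ * (g * e * g⁻¹) * g = e by group] at this
    have h1 := (core_comm hT hq g⁻¹ (ed_le_base hD he hy')).inv_left.mul_left (h _ hy')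
    have e1 : (q * g⁻¹ * q⁻¹ * g⁻¹⁻¹)⁻¹ * q = g⁻¹ * q * g := by group
    rw [e1] at h1
    have h2 := h1.map (MulAut.conj g).toMonoidHom
    simp only [MulEquiv.coe_toMonoidHom, MulAut.conj_apply, show g * (g⁻¹ * q * g) * g⁻¹ = q by group,
      show g * (g⁻¹ * y * g) * g⁻¹ = y by group] at h2
    exact h2
  | one => exact Commute.one_right q
  | mul a b _ _ ha hb => exact ha.mul_right hb
  | inv a _ ha => exact ha.inv_right

variable (hF : Fintype.card F = 2 ^ 2)
include hF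

/-- Isotropic vectors in the complement of a pair, in dimension five, are odd in number. -/
theorem exists_fixed_perp {a f : Fin 5 → F} (h : IsHyp 2 a f) (S : Subgroup (SU 5 F 2))
    (hS : IsPGroup 2 S) (hSa : ∀ g ∈ S, suMat g *ᵥ a = a ∧ suMat g *ᵥ f = f) :
    ∃ b : Fin 5 → F, b ≠ 0 ∧ hermForm 5 F 2 b b = 0 ∧ hermForm 5 F 2 b a = 0 ∧
      hermForm 5 F 2 b f = 0 ∧ ∀ g ∈ S, suMat g *ᵥ b = b := by
  obtain ⟨ι, j, -, -, hj, hjh, -, hsurj⟩ := PointStab.exists_pair_hom hF (m := 3) (by norm_num) h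
  have hperp : ∀ w, hermForm 5 F 2 (j w) a = 0 ∧ hermForm 5 F 2 (j w) f = 0 := by
    have hle : pperp 2 a f ≤ LinearMap.range j := fun z hz =>
      hsurj z (RadFrame.mem_pperp.1 hz).1 (RadFrame.mem_pperp.1 hz).2
    have hfin : Module.finrank F (pperp (q := 2) a f) + 2 = 5 := by
      simpa using finrank_perp_range hF (GramND.linearIndependent hF (h.gramND hF))
    have hdim : Module.finrank F (LinearMap.range j) ≤ Module.finrank F (pperp (q := 2) a f) := by
      rw [LinearMap.finrank_range_of_inj hj, Module.finrank_fin_fun]; omega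
    intro w
    refine RadFrame.mem_pperp.1 ?_
    rw [Submodule.eq_of_le_of_finrank_le hle hdim]
    exact LinearMap.mem_range_self j w
  let X := {v : Fin 5 → F // v ≠ 0 ∧ hermForm 5 F 2 v v = 0 ∧ hermForm 5 F 2 v a = 0 ∧
    hermForm 5 F 2 v f = 0}
  have hodd : Odd (Nat.card X) := by
    let ψ : {w : Fin 3 → F // w ≠ 0 ∧ hermForm 3 F 2 w w = 0} → X := fun w =>
      ⟨j w.1, fun e => w.2.1 (hj (e.trans (map_zero j).symm)), by rw [hjh]; exact w.2.2,
        (hperp w.1).1, (hperp w.1).2⟩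
    have hψ : Function.Bijective ψ := by
      constructor
      · intro w w' e
        exact Subtype.ext (hj (congrArg Subtype.val e))
      · rintro ⟨v, hv0, hv, hva, hvf⟩
        obtain ⟨w, rfl⟩ := hsurj v hva hvf
        exact ⟨⟨w, fun e => hv0 (by rw [e, map_zero]), by rw [← hjh]; exact hv⟩, rfl⟩
    rw [← Nat.card_eq_of_bijective ψ hψ]
    exact odd_card_isotropic hF (by norm_num)
  letI act : MulAction S X :=
    { smul := fun g v => ⟨suMat g.1 *ᵥ v.1,
        fun e => v.2.1 (by rw [← suMat_inv_mulVec g.1 v.1, e, mulVec_zero]),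
        by rw [suMat_h]; exact v.2.2.1,
        ((congrArg (hermForm 5 F 2 (suMat g.1 *ᵥ v.1)) (hSa g.1 g.2).1.symm).trans
          (suMat_h g.1 v.1 a)).trans v.2.2.2.1,
        ((congrArg (hermForm 5 F 2 (suMat g.1 *ᵥ v.1)) (hSa g.1 g.2).2.symm).trans
          (suMat_h g.1 v.1 f)).trans v.2.2.2.2⟩
      one_smul := fun v => Subtype.ext (by
        show suMat (1 : SU 5 F 2) *ᵥ v.1 = v.1
        rw [suMat_one, one_mulVec])
      mul_smul := fun g k v => Subtype.ext (suMat_mulVec_mul g.1 k.1 v.1) }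
  obtain ⟨⟨b, hb0, hb, hba, hbf⟩, hfix⟩ := exists_fixed_of_odd hS hodd
  exact ⟨b, hb0, hb, hba, hbf, fun g hg => congrArg Subtype.val (hfix ⟨g, hg⟩)⟩

/-- A 2-element fixing the pair and an isotropic vector of its complement lies in that radical. -/
theorem mem_radU_of_fix {a f b : Fin 5 → F} (h : IsHyp 2 a f) (hb0 : b ≠ 0)
    (hb : hermForm 5 F 2 b b = 0) (hba : hermForm 5 F 2 b a = 0) (hbf : hermForm 5 F 2 b f = 0)
    {s : SU 5 F 2} {k : ℕ} (hk : s ^ 2 ^ k = 1) (hsa : suMat s *ᵥ a = a) (hsf : suMat s *ᵥ f = f)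
    (hsb : suMat s *ᵥ b = b) : s ∈ H55.Psu.radU (q := 2) b := by
  have hab := (h_eq_zero_comm hF).1 hba
  have hfb := (h_eq_zero_comm hF).1 hbf
  have hfa := (h.symm hF).2.2
  -- a norm-one vector orthogonal to a, f, b, which together with them spans the perp of b
  obtain ⟨c, hc⟩ := exists_hyp_partner hF hb0 hb
  obtain ⟨c', hc'a, hc'f, hbc', hc'⟩ : ∃ c', hermForm 5 F 2 c' a = 0 ∧ hermForm 5 F 2 c' f = 0 ∧
      hermForm 5 F 2 b c' = 1 ∧ IsHyp 2 b c' := by
    obtain ⟨w, hwa, hwf, hc2⟩ := PointStab.pair_decomp hF h c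
    obtain ⟨al, hal⟩ := exists_trace_eq hF (c := hermForm 5 F 2 w w) (h_self_fixed hF w)
    have hbw : hermForm 5 F 2 b w = 1 := by
      have := hc.2.2
      rw [hc2, h_add_right hF, h_add_right hF, h_smul_right hF, h_smul_right hF, hba, hbf] at this
      linear_combination this
    refine ⟨w + al • b, ?_, ?_, ?_, hb, ?_, ?_⟩
    · rw [h_add_left, h_smul_left, hwa, hba]; ring
    · rw [h_add_left, h_smul_left, hwf, hbf]; ring
    · rw [h_add_right hF, h_smul_right hF, hbw, hb]; ring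
    · rw [h_add_left, h_add_right hF, h_add_right hF, h_smul_left, h_smul_left, h_smul_right hF,
        h_smul_right hF, hb, hbw, h_symm hF b w, hbw]
      linear_combination hal + hermForm 5 F 2 w w * H92.gf4_two hF
    · rw [h_add_right hF, h_smul_right hF, hbw, hb]; ring
  have hgr : GramND 2 ![a, f, b, c'] := by
    intro g hg
    have h0 := hg 0; have h1 := hg 1; have h2 := hg 2; have h3 := hg 3
    simp [Fin.sum_univ_four, h_add_left, h_smul_left, h.1, h.2.1, h.2.2, hfa, hb, hba, hbf, hab,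
      hfb, hbc', (hc'.symm hF).2.2, (h_eq_zero_comm hF).1 hc'a, (h_eq_zero_comm hF).1 hc'f, hc'a,
      hc'f, hc'.2.1] at h0 h1 h2 h3
    funext i
    fin_cases i
    · exact h1
    · exact h0
    · exact h3
    · exact h2
  obtain ⟨d, hd, hdb⟩ := exists_completion hF hgr
  let i0 : Fin (5 - Fintype.card (Fin 4)) := ⟨0, by simp⟩
  obtain ⟨z, hz⟩ : ∃ z, z = d i0 := ⟨_, rfl⟩
  have hzz : hermForm 5 F 2 z z = 1 := by rw [hz]; simpa using hd i0 i0
  have hza : hermForm 5 F 2 z a = 0 := hz ▸ hdb i0 0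
  have hzf : hermForm 5 F 2 z f = 0 := hz ▸ hdb i0 1
  have hzb : hermForm 5 F 2 z b = 0 := hz ▸ hdb i0 2
  have hzc : hermForm 5 F 2 z c' = 0 := hz ▸ hdb i0 3
  have hgr5 : GramND 2 ![a, f, b, c', z] := by
    intro g hg
    have h0 := hg 0; have h1 := hg 1; have h2 := hg 2; have h3 := hg 3; have h4 := hg 4
    simp [Fin.sum_univ_five, h_add_left, h_smul_left, h.1, h.2.1, h.2.2, hfa, hb, hba, hbf, hab,
      hfb, hbc', (hc'.symm hF).2.2, (h_eq_zero_comm hF).1 hc'a, (h_eq_zero_comm hF).1 hc'f, hc'a,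
      hc'f, hc'.2.1, hzz, hza, hzf, hzb, hzc, (h_eq_zero_comm hF).1 hza, (h_eq_zero_comm hF).1 hzf,
      (h_eq_zero_comm hF).1 hzb, (h_eq_zero_comm hF).1 hzc] at h0 h1 h2 h3 h4
    funext i
    fin_cases i
    · exact h1
    · exact h0
    · exact h3
    · exact h2
    · exact h4
  have hinj : Function.Injective (coords 2 ![a, f, b, c', z]) :=
    (LinearMap.injective_iff_surjective_of_finrank_eq_finrank (by simp)).2
      (coords_surjective hF (GramND.linearIndependent hF hgr5))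
  have hexp : ∀ x, hermForm 5 F 2 x b = 0 →
      x = hermForm 5 F 2 x f • a + hermForm 5 F 2 x a • f + hermForm 5 F 2 x c' • b +
        hermForm 5 F 2 x z • z := fun x hx => hinj (funext fun i => by
    fin_cases i <;>
      simp [h_add_left, h_smul_left, h.1, h.2.1, h.2.2, hfa, hb, hba, hbf, hab, hfb, hbc', hzz, hza,
        hzf, hzb, hzc, (h_eq_zero_comm hF).1 hza, (h_eq_zero_comm hF).1 hzf, (h_eq_zero_comm hF).1 hzb,
        (h_eq_zero_comm hF).1 hc'a, (h_eq_zero_comm hF).1 hc'f, hx])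
  obtain ⟨l, m, hl⟩ : ∃ l m : F, suMat s *ᵥ z = l • z + m • b := by
    refine ⟨hermForm 5 F 2 (suMat s *ᵥ z) z, hermForm 5 F 2 (suMat s *ᵥ z) c', ?_⟩
    have e1 : hermForm 5 F 2 (suMat s *ᵥ z) a = 0 := by
      nth_rw 1 [← hsa]; rw [suMat_h, hza]
    have e2 : hermForm 5 F 2 (suMat s *ᵥ z) f = 0 := by
      nth_rw 1 [← hsf]; rw [suMat_h, hzf]
    have e3 : hermForm 5 F 2 (suMat s *ᵥ z) b = 0 := by
      nth_rw 1 [← hsb]; rw [suMat_h, hzb]
    have := hexp _ e3
    rw [e1, e2, zero_smul, zero_smul, zero_add, zero_add, add_comm] at this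
    exact this
  have hit : ∀ i : ℕ, ∃ m' : F, suMat (s ^ i) *ᵥ z = l ^ i • z + m' • b := by
    intro i
    induction i with
    | zero => exact ⟨0, by simp [suMat_one]⟩
    | succ i ih =>
      obtain ⟨m', hm'⟩ := ih
      refine ⟨l ^ i * m + m', ?_⟩
      rw [pow_succ', suMat_mulVec_mul, hm', mulVec_add, mulVec_smul, mulVec_smul, hl, hsb, smul_add,
        smul_smul, smul_smul, add_smul, pow_succ, add_assoc]
  have hl1 : l = 1 := by
    obtain ⟨m', hm'⟩ := hit (2 ^ k)
    rw [hk, suMat_one, one_mulVec] at hm'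
    have h1 : l ^ 2 ^ k = 1 := by
      have := congrArg (fun v => hermForm 5 F 2 v z) hm'
      simpa [h_add_left, h_smul_left, hzz, (h_eq_zero_comm hF).1 hzb] using this.symm
    have hl0 : l ≠ 0 := by
      rintro rfl
      simp at h1
    haveI := Fact.mk Nat.prime_two
    haveI : CharP F 2 := CharTwo.of_one_ne_zero_of_two_eq_zero one_ne_zero (H92.gf4_two hF)
    refine iterateFrobenius_inj F 2 k ?_
    rw [iterateFrobenius_def, iterateFrobenius_def, h1, one_pow]
  refine ⟨hsb, fun x hx => ⟨hermForm 5 F 2 x z * m, ?_⟩⟩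
  have := hexp x hx
  conv_lhs => rw [this]
  rw [mulVec_add, mulVec_add, mulVec_add, mulVec_smul, mulVec_smul, mulVec_smul, mulVec_smul, hsa,
    hsf, hsb, hl, hl1, one_smul, smul_add, smul_smul, ← add_assoc, ← this]

omit hF in
/-- Dimension five. -/
theorem elementaryAbelian {π : G →* SU 5 F 2} (hC : Cover D π) :
    Cfsg.IsElementaryAbelian 2 (pCore 2 G) := by
  have hF := hC.card
  have hT := hC.data
  haveI : Finite (SU 5 F 2) := Finite.of_surjective π hC.surj
  haveI := Fact.mk Nat.prime_two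
  haveI : CharP F 2 := CharTwo.of_one_ne_zero_of_two_eq_zero one_ne_zero (H92.gf4_two hF)
  obtain ⟨P⟩ : Nonempty (Sylow 2 (SU 5 F 2)) := inferInstance
  obtain ⟨a, ha0, ha, hP⟩ := exists_fixed_isotropic hF (by norm_num) P
  obtain ⟨d, hd, hda⟩ := hC.exists_D ha0 ha
  obtain ⟨f, haf⟩ := exists_hyp_partner hF ha0 ha
  have hradP : H55.Psu.radU (q := 2) a ≤ (P : Subgroup (SU 5 F 2)) := by
    have hn : (P : Subgroup (SU 5 F 2)) ≤
        Subgroup.normalizer ((H55.Psu.radU (q := 2) a : Subgroup (SU 5 F 2)) : Set (SU 5 F 2)) := by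
      intro g hg
      refine Subgroup.mem_normalizer_iff.2 fun e => ⟨fun h =>
        PointStab.radU_map_conj hF (PointStab.mem_stab.2 (hP g hg)) ⟨e, h, rfl⟩, fun h => ?_⟩
      have := PointStab.radU_map_conj hF (inv_mem (PointStab.mem_stab.2 (hP g hg))) ⟨_, h, rfl⟩
      simpa [mul_assoc] using this
    have h2 : IsPGroup 2 ↥((H55.Psu.radU (q := 2) a : Subgroup (SU 5 F 2)) ⊔ (P : Subgroup (SU 5 F 2))) :=
      IsPGroup.to_sup_of_normal_left' (PointStab.isPGroup_radU hF (by norm_num) ha) P.isPGroup' hn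
    have := P.is_maximal' h2 le_sup_right
    exact le_sup_left.trans this.le
  obtain ⟨b, hb0, hb, hba, hbf, hfix⟩ := exists_fixed_perp hF haf
    ((P : Subgroup (SU 5 F 2)) ⊓ stab2 a f) (P.isPGroup'.to_le inf_le_left) fun g hg => hg.2
  obtain ⟨c, hbc⟩ := exists_hyp_partner hF hb0 hb
  obtain ⟨e, he, heb⟩ := hC.exists_D hb0 hb
  let R : Set G := {r | r ∈ Subgroup.closure {x | x ∈ D ∧ Commute x e} ∧
    π r ∈ H55.Psu.radU (q := 2) b ∧ suMat (π r) *ᵥ a = a}
  refine hC.assemble hd hda R (fun r hr => hr.2.2) ?_ P fun g hg => ?_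
  · rintro r ⟨hr, hrb, -⟩ r' ⟨hr', hrb', -⟩
    have hk : r * r' * r⁻¹ * r'⁻¹ ∈ Subgroup.closure {x | x ∈ D ∧ Commute x e} :=
      mul_mem (mul_mem (mul_mem hr hr') (inv_mem hr)) (inv_mem hr')
    have hkr : π (r * r' * r⁻¹ * r'⁻¹) ∈ H55.Psu.radU (q := 2) b := by
      simp only [map_mul, map_inv]
      exact mul_mem (mul_mem (mul_mem hrb hrb') (inv_mem hrb)) (inv_mem hrb')
    have hpr : RadFrame.pr (q := 2) b c (π (r * r' * r⁻¹ * r'⁻¹)) = 0 := by
      have hone : RadFrame.pr (q := 2) b c (1 : SU 5 F 2) = 0 := by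
        simp [RadFrame.pr, suMat_one, h_zero_left]
      have hinv : ∀ {x : SU 5 F 2}, x ∈ H55.Psu.radU (q := 2) b →
          RadFrame.pr (q := 2) b c x⁻¹ = -RadFrame.pr (q := 2) b c x := by
        intro x hx
        have := (RadFrame.pr_mul hF hbc hx (inv_mem hx)).1
        rw [mul_inv_cancel, hone] at this
        exact eq_neg_of_add_eq_zero_right this.symm
      simp only [map_mul, map_inv]
      rw [(RadFrame.pr_mul hF hbc (mul_mem (mul_mem hrb hrb') (inv_mem hrb)) (inv_mem hrb')).1,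
        (RadFrame.pr_mul hF hbc (mul_mem hrb hrb') (inv_mem hrb)).1,
        (RadFrame.pr_mul hF hbc hrb hrb').1, hinv hrb, hinv hrb']
      abel
    obtain ⟨α, hα, heq⟩ := RadFrame.eq_tv_of_pr_zero hF hbc hkr hpr
    have hedc : Commute e d :=
      (hC.commute_iff he hd heb hda).2 hba
    have hcore : ∀ q ∈ pCore 2 G, q ∈ Subgroup.closure {x | x ∈ D ∧ Commute x e} →
        ∀ x ∈ Ed D d, Commute q x := by
      intro q hq hqe x hx
      refine base_fixed_of_ed hT he hq (fun y hy => ?_) (ed_le_base hT.cls hd hx)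
      have hle : Subgroup.closure {x | x ∈ D ∧ Commute x e} ≤ Subgroup.centralizer {y} := by
        rw [Subgroup.closure_le]
        rintro x ⟨hx, hxe⟩
        exact Subgroup.mem_centralizer_singleton_iff.2 (ed_commute hT.cls he hx hxe.symm hy).eq
      exact Subgroup.mem_centralizer_singleton_iff.1 (hle hqe)
    intro x hx
    rcases H92.gf4_coeff hF hα with rfl | rfl
    · refine hcore _ (hC.mem_core.2 ?_) hk x hx
      rw [heq, H55.Psu.tv_zero hF b hb hα]
    · have hπe : π e = π (r * r' * r⁻¹ * r'⁻¹) := by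
        rw [heq]
        exact IsT.unique heb ⟨hb0, hb, rfl⟩
      have h1 := hcore (e⁻¹ * (r * r' * r⁻¹ * r'⁻¹))
        (hC.mem_core.2 (by rw [map_mul, map_inv, hπe, inv_mul_cancel]))
        (mul_mem (inv_mem (Subgroup.subset_closure ⟨he, Commute.refl e⟩)) hk) x hx
      have h2 := (ed_commute hT.cls hd he hedc.symm hx).mul_left h1
      rwa [mul_inv_cancel_left] at h2
  obtain ⟨r, hr, s, hs, rfl⟩ := stab_split hF haf (hP g hg)
  have hsP : s ∈ (P : Subgroup (SU 5 F 2)) := (Subgroup.mul_mem_cancel_left _ (hradP hr)).1 hg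
  have hK := fun g w => hC.mem_image_perp hd hda R (g := g) (w := w)
  refine mul_mem (radU_le hF (m := 3) rfl (by norm_num) haf hK hr) ?_
  obtain ⟨hsa, hsf⟩ := PointStab.mem_stab2.1 hs
  obtain ⟨k, hk⟩ := P.isPGroup' ⟨s, hsP⟩
  have hsb := hfix s ⟨hsP, hs⟩
  have hsr := mem_radU_of_fix hF haf hb0 hb hba hbf (k := k)
    (by simpa [Subtype.ext_iff] using hk) hsa hsf hsb
  have hKe : ∀ g w, IsT g w → hermForm 5 F 2 w b = 0 →
      g ∈ (Subgroup.closure {x | x ∈ D ∧ Commute x e}).map π := by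
    intro g w hg hw
    obtain ⟨x, hx, rfl⟩ := hC.lift hg
    exact ⟨x, Subgroup.subset_closure ⟨hx, (hC.commute_iff hx he hg heb).2 hw⟩, rfl⟩
  obtain ⟨y, hy, rfl⟩ := radU_le hF (m := 3) rfl (by norm_num) hbc hKe hsr
  exact ⟨y, Subgroup.subset_closure (Or.inr ⟨hy, hsr, hsa⟩), rfl⟩

end H5.TT.Five
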