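/-
The normal 2-subgroup below a 3-transposition class is elementary abelian, under two conditions
on the quotient: generation by two perps, and a transfer condition on the centraliser of a member.
-/
import Cfsg.Prelude.Def_FischerSpaces
import Cfsg.Prelude.Def_Transfer
import Cfsg.Agent.H1.Cores
import Cfsg.Agent.H99.TTBasic
import Cfsg.Agent.H99.TTCores
import Mathlib.GroupTheory.Transfer

set_option autoImplicit false

namespace H5.TT

open Cfsg Subgroup H99
open scoped commutatorElement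

variable {G : Type*} [Group G] {D : Set G} {N : Subgroup G}

/-- Products of two members lying over the same coset as `d`. -/
def cosetDiff (D : Set G) (N : Subgroup G) (d : G) : Set G :=
  {x | ∃ a ∈ D, ∃ b ∈ D, a * d ∈ N ∧ b * d ∈ N ∧ x = a * b}

/-- The subgroup generated by these products. -/
def diffSub (D : Set G) (N : Subgroup G) (d : G) : Subgroup G := closure (cosetDiff D N d)

/-- The members commuting with `d`. -/
def perpSub (D : Set G) (d : G) : Subgroup G := closure {f | f ∈ D ∧ Commute f d}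

/-- The members commuting with `d` or with `e`. -/
def perpSub₂ (D : Set G) (d e : G) : Subgroup G :=
  closure {f | f ∈ D ∧ (Commute f d ∨ Commute f e)}

/-- The hypotheses used: congruent members have the same commuting partners. -/
structure Setup (D : Set G) (N : Subgroup G) : Prop where
  cls : IsThreeTranspositionClass D
  normal : N.Normal
  center : Subgroup.center G = ⊥
  rel : ∀ a ∈ D, ∀ d ∈ D, a * d ∈ N → ∀ f ∈ D, Commute a f ↔ Commute d f

namespace Setup

variable (h : Setup D N)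
include h

theorem conjMem {a d : G} (g : G) (had : a * d ∈ N) : (g * a * g⁻¹) * (g * d * g⁻¹) ∈ N := by
  have := h.normal.conj_mem _ had g
  simpa [mul_assoc] using this

theorem commute_pair {a b d : G} (ha : a ∈ D) (hb : b ∈ D) (hd : d ∈ D) (had : a * d ∈ N)
    (hbd : b * d ∈ N) : Commute a b :=
  (h.rel a ha d hd had b hb).2 ((h.rel b hb d hd hbd d hd).2 (Commute.refl d)).symm

theorem diff_le {d : G} (hd : d ∈ D) : diffSub D N d ≤ N := by
  rw [diffSub, closure_le]
  rintro x ⟨a, _, b, hb, had, hbd, rfl⟩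
  have h2 := h.normal.mem_comm hbd
  have e : a * b = a * d * (d * b) := by
    rw [mul_assoc a, ← mul_assoc d d, tt_mul_self h.cls.1 hd, one_mul]
  rw [e]
  exact mul_mem had h2

theorem commute_diff {d f : G} (hd : d ∈ D) (hf : f ∈ D) (hfd : Commute f d) {x : G}
    (hx : x ∈ diffSub D N d) : Commute f x := by
  have hle : diffSub D N d ≤ Subgroup.centralizer {f} := by
    rw [diffSub, closure_le]
    rintro y ⟨a, ha, b, hb, had, hbd, rfl⟩
    have h1 : Commute a f := (h.rel a ha d hd had f hf).2 hfd.symm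
    have h2 : Commute b f := (h.rel b hb d hd hbd f hf).2 hfd.symm
    exact Subgroup.mem_centralizer_singleton_iff.2 (h1.mul_left h2).eq
  exact (Subgroup.mem_centralizer_singleton_iff.1 (hle hx)).symm

theorem diff_conj_mem {d : G} (g : G) {x : G} (hx : x ∈ diffSub D N d) :
    g * x * g⁻¹ ∈ diffSub D N (g * d * g⁻¹) := by
  have hle : (diffSub D N d).map (MulAut.conj g).toMonoidHom ≤ diffSub D N (g * d * g⁻¹) := by
    rw [diffSub, MonoidHom.map_closure, closure_le]
    rintro _ ⟨y, ⟨a, ha, b, hb, had, hbd, rfl⟩, rfl⟩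
    exact subset_closure ⟨_, class_conj_mem h.cls g ha, _, class_conj_mem h.cls g hb,
      h.conjMem g had, h.conjMem g hbd, by simp [MulAut.conj_apply, mul_assoc]⟩
  exact hle ⟨x, hx, rfl⟩

theorem diff_congr {d d' : G} (hd : d ∈ D) (hd' : d' ∈ D) (hdd : d' * d ∈ N) :
    diffSub D N d' ≤ diffSub D N d := by
  refine closure_mono ?_
  rintro x ⟨a, ha, b, hb, had, hbd, rfl⟩
  have key : ∀ y : G, y * d' ∈ N → y * d ∈ N := by
    intro y hy
    have := mul_mem hy hdd
    rwa [mul_assoc y, ← mul_assoc d' d', tt_mul_self h.cls.1 hd', one_mul] at this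
  exact ⟨a, ha, b, hb, key a had, key b hbd, rfl⟩

theorem conj_mul_mem {d : G} (hd : d ∈ D) {n : G} (hn : n ∈ N) : n * d * n⁻¹ * d ∈ N := by
  have := h.normal.conj_mem _ (inv_mem hn) d
  rw [tt_inv h.cls.1 hd] at this
  have := mul_mem hn this
  simpa [mul_assoc] using this

theorem diff_normalized {d : G} (hd : d ∈ D) {n x : G} (hn : n ∈ N) (hx : x ∈ diffSub D N d) :
    n * x * n⁻¹ ∈ diffSub D N d :=
  h.diff_congr hd (class_conj_mem h.cls n hd) (h.conj_mul_mem hd hn) (h.diff_conj_mem n hx)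

theorem comm_mem_diff {d : G} (hd : d ∈ D) {n : G} (hn : n ∈ N) :
    n * d * n⁻¹ * d ∈ diffSub D N d :=
  subset_closure ⟨_, class_conj_mem h.cls n hd, d, hd, h.conj_mul_mem hd hn,
    by rw [tt_mul_self h.cls.1 hd]; exact one_mem N, rfl⟩

theorem diff_sq {d : G} (hd : d ∈ D) : ∀ x ∈ cosetDiff D N d, x * x = 1 := by
  rintro x ⟨a, ha, b, hb, had, hbd, rfl⟩
  have := invol_sq_eq_one_of_commute (tt_mul_self h.cls.1 ha) (tt_mul_self h.cls.1 hb)
    (h.commute_pair ha hb hd had hbd)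
  rwa [pow_two] at this

variable (hgen : ∀ d ∈ D, ∀ e ∈ D, ¬ Commute d e → perpSub₂ D d e ⊔ N = ⊤)
include hgen

theorem perpSub₂_eq_top {d e : G} (hd : d ∈ D) (he : e ∈ D) (hn : ¬ Commute d e) :
    perpSub₂ D d e = ⊤ := by
  set H := perpSub₂ D d e with hH
  have hmap : ∀ n ∈ N, ∀ x ∈ H, n * x * n⁻¹ ∈ H := by
    intro n hn x hx
    have hle : H.map (MulAut.conj n).toMonoidHom ≤ H := by
      rw [hH, perpSub₂, MonoidHom.map_closure, closure_le]
      rintro _ ⟨f, ⟨hf, hfde⟩, rfl⟩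
      refine subset_closure ⟨class_conj_mem h.cls n hf, ?_⟩
      have step : ∀ c ∈ D, Commute f c → Commute (n * f * n⁻¹) c := by
        intro c hc hfc
        exact ((h.rel _ (class_conj_mem h.cls n hc) c hc (h.conj_mul_mem hc hn) _
          (class_conj_mem h.cls n hf)).1 ((conj_commute_iff n c f).2 hfc.symm)).symm
      exact hfde.imp (step d hd) (step e he)
    exact hle ⟨x, hx, rfl⟩
  have hnorm : H.Normal := by
    rw [← normalizer_eq_top_iff, eq_top_iff, ← hgen d hd e he hn, sup_le_iff]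
    refine ⟨le_normalizer, fun n hn => mem_normalizer_iff.2 fun x => ⟨hmap n hn x, fun hx => ?_⟩⟩
    have := hmap n⁻¹ (inv_mem hn) _ hx
    simpa [mul_assoc] using this
  rw [eq_top_iff, ← h.cls.2.2, closure_le]
  intro x hx
  obtain ⟨g, rfl⟩ := class_isConj h.cls hd hx
  exact hnorm.conj_mem d (subset_closure ⟨hd, Or.inl (Commute.refl d)⟩) g

theorem diff_commute {d e : G} (hd : d ∈ D) (he : e ∈ D) {x y : G} (hx : x ∈ diffSub D N d)
    (hy : y ∈ diffSub D N e) : Commute x y := by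
  by_cases hn : Commute d e
  · have hle : diffSub D N e ≤ Subgroup.centralizer {x} := by
      rw [diffSub, closure_le]
      rintro z ⟨a, ha, b, hb, had, hbd, rfl⟩
      have h1 : Commute a x :=
        h.commute_diff hd ha ((h.rel a ha e he had d hd).2 hn.symm) hx
      have h2 : Commute b x :=
        h.commute_diff hd hb ((h.rel b hb e he hbd d hd).2 hn.symm) hx
      exact Subgroup.mem_centralizer_singleton_iff.2 (h1.mul_left h2).eq
    exact (Subgroup.mem_centralizer_singleton_iff.1 (hle hy)).symm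
  · have hcent : ∀ z, z ∈ diffSub D N d → z ∈ diffSub D N e → z = 1 := by
      intro z hzd hze
      have hle : perpSub₂ D d e ≤ Subgroup.centralizer {z} := by
        rw [perpSub₂, closure_le]
        rintro f ⟨hf, hfd | hfe⟩
        · exact Subgroup.mem_centralizer_singleton_iff.2 (h.commute_diff hd hf hfd hzd).eq
        · exact Subgroup.mem_centralizer_singleton_iff.2 (h.commute_diff he hf hfe hze).eq
      rw [h.perpSub₂_eq_top hgen hd he hn] at hle
      have : z ∈ Subgroup.center G := Subgroup.mem_center_iff.2 fun g =>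
        Subgroup.mem_centralizer_singleton_iff.1 (hle (mem_top g))
      rwa [h.center, mem_bot] at this
    have h1 : x * y * x⁻¹ * y⁻¹ ∈ diffSub D N d := by
      have := mul_mem hx (h.diff_normalized hd (h.diff_le he hy) (inv_mem hx))
      simpa [mul_assoc] using this
    have h2 : x * y * x⁻¹ * y⁻¹ ∈ diffSub D N e :=
      mul_mem (h.diff_normalized he (h.diff_le hd hx) hy) (inv_mem hy)
    have := hcent _ h1 h2
    exact commutatorElement_eq_one_iff_commute.1 (by rw [commutatorElement_def]; exact this)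

omit hgen

/-- Transfer: if the centre quotient is killed, `N` is carried by the perp of `d`. -/
theorem le_perp [Finite G] (hN : IsPGroup 2 N) (P : Subgroup G) [P.Normal] (hPN : P ≤ N)
    (hPc : ∀ n ∈ N, ∀ g : G, n * g * n⁻¹ * g⁻¹ ∈ P) {d : G} (hd : d ∈ D)
    (hLP : perpSub D d ⊓ N ≤ P) (hodd : Odd (perpSub D d ⊔ N).index)
    (hfive : ∃ f : Fin 5 → G, (∀ i, f i ∈ D ∧ Commute (f i) d) ∧
      f 0 * f 1 * f 2 * f 3 * f 4 ∈ N) : N ≤ P := by
  obtain ⟨π, hπ⟩ : ∃ π : G →* G ⧸ P, π = QuotientGroup.mk' P := ⟨_, rfl⟩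
  have hker : ∀ {x : G}, π x = 1 ↔ x ∈ P := fun {x} => by
    rw [hπ]; exact QuotientGroup.eq_one_iff x
  have hsurj : Function.Surjective π := hπ ▸ QuotientGroup.mk'_surjective P
  obtain ⟨N1, hN1⟩ : ∃ N1 : Subgroup (G ⧸ P), N1 = N.map π := ⟨_, rfl⟩
  obtain ⟨L1, hL1⟩ : ∃ L1 : Subgroup (G ⧸ P), L1 = (perpSub D d).map π := ⟨_, rfl⟩
  have hcen : ∀ n ∈ N1, ∀ g : G ⧸ P, Commute n g := by
    rintro n hn g
    rw [hN1] at hn
    obtain ⟨m, hm, rfl⟩ := hn
    obtain ⟨g, rfl⟩ := hsurj g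
    have := hker.2 (hPc m hm g)
    simp only [map_mul, map_inv] at this
    exact commutatorElement_eq_one_iff_commute.1 (by rw [commutatorElement_def]; exact this)
  have hdisj : L1 ⊓ N1 = ⊥ := by
    rw [eq_bot_iff]
    rintro x ⟨hxL, hxN⟩
    rw [SetLike.mem_coe, hL1] at hxL
    rw [SetLike.mem_coe, hN1] at hxN
    obtain ⟨l, hl, rfl⟩ := hxL
    obtain ⟨m, hm, hml⟩ := hxN
    have hq : m⁻¹ * l ∈ P := by
      rw [← hker, map_mul, map_inv, hml, inv_mul_cancel]
    have hlN : l ∈ N := by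
      have := mul_mem hm (hPN hq)
      rwa [mul_inv_cancel_left] at this
    exact mem_bot.2 (hker.2 (hLP ⟨hl, hlN⟩))
  letI instN1 : CommGroup N1 :=
    { (inferInstance : Group N1) with
      mul_comm := fun a b => Subtype.ext (hcen _ a.2 b) }
  let ψ : L1 × N1 →* G ⧸ P :=
    { toFun := fun p => (p.1 : G ⧸ P) * (p.2 : G ⧸ P)
      map_one' := by simp
      map_mul' := fun p r => by
        simp only [Prod.fst_mul, Prod.snd_mul, Subgroup.coe_mul]
        exact (hcen _ p.2.2 _).symm.mul_mul_mul_comm _ _ }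
  have hinj : Function.Injective ψ := by
    rw [← MonoidHom.ker_eq_bot_iff, eq_bot_iff]
    rintro ⟨l, m⟩ hlm
    rw [MonoidHom.mem_ker] at hlm
    change (l : G ⧸ P) * (m : G ⧸ P) = 1 at hlm
    have hl : (l : G ⧸ P) ∈ L1 ⊓ N1 := by
      refine ⟨l.2, ?_⟩
      rw [eq_inv_of_mul_eq_one_left hlm]
      exact N1.inv_mem m.2
    rw [hdisj, mem_bot] at hl
    rw [hl, one_mul] at hlm
    rw [mem_bot, Prod.ext_iff]
    exact ⟨Subtype.ext hl, Subtype.ext hlm⟩
  let e : L1 × N1 ≃* ψ.range := MonoidHom.ofInjective hinj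
  let β : ψ.range →* N1 := (MonoidHom.snd L1 N1).comp e.symm.toMonoidHom
  have hβL : ∀ (x : G ⧸ P) (hx : x ∈ ψ.range), x ∈ L1 → β ⟨x, hx⟩ = 1 := by
    intro x hx hxL
    have : e (⟨x, hxL⟩, 1) = ⟨x, hx⟩ := Subtype.ext (by
      show ψ (⟨x, hxL⟩, 1) = x
      simp [ψ])
    show (e.symm ⟨x, hx⟩).2 = 1
    rw [← this, e.symm_apply_apply]
  have hβN : ∀ (x : G ⧸ P) (hx : x ∈ ψ.range) (hxN : x ∈ N1), β ⟨x, hx⟩ = ⟨x, hxN⟩ := by
    intro x hx hxN
    have : e (1, ⟨x, hxN⟩) = ⟨x, hx⟩ := Subtype.ext (by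
      show ψ (1, ⟨x, hxN⟩) = x
      simp [ψ])
    show (e.symm ⟨x, hx⟩).2 = ⟨x, hxN⟩
    rw [← this, e.symm_apply_apply]
  have hrange : ψ.range = (perpSub D d ⊔ N).map π := by
    rw [Subgroup.map_sup, ← hL1, ← hN1]
    refine le_antisymm ?_ (sup_le ?_ ?_)
    · rintro _ ⟨p, rfl⟩
      exact mul_mem (mem_sup_left p.1.2) (mem_sup_right p.2.2)
    · exact fun x hx => ⟨(⟨x, hx⟩, 1), by simp [ψ]⟩
    · exact fun x hx => ⟨(1, ⟨x, hx⟩), by simp [ψ]⟩
  have hidx : Odd ψ.range.index := by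
    rw [hrange, Subgroup.index_map_eq _ hsurj]
    · exact hodd
    · intro x hx
      exact mem_sup_right (hPN (hker.1 hx))
  let τ : G →* N1 := (MonoidHom.transfer β).comp π
  have hτc : ∀ x ∈ D, ∀ y ∈ D, τ x = τ y := by
    intro x hx y hy
    obtain ⟨g, rfl⟩ := class_isConj h.cls hx hy
    rw [map_mul, map_mul, map_inv, mul_comm, inv_mul_cancel_left]
  have hτN : ∀ m ∈ N, ((τ m : N1) : G ⧸ P) = π m ^ ψ.range.index := by
    intro m hm
    have hmN : π m ∈ N1 := hN1 ▸ mem_map_of_mem π hm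
    have key : ∀ (k : ℕ) (g₀ : G ⧸ P), g₀⁻¹ * π m ^ k * g₀ ∈ ψ.range →
        g₀⁻¹ * π m ^ k * g₀ = π m ^ k := fun k g₀ _ => by
      rw [mul_assoc, (hcen _ (pow_mem hmN k) g₀).eq, inv_mul_cancel_left]
    show ((MonoidHom.transfer β (π m) : N1) : G ⧸ P) = _
    rw [MonoidHom.transfer_eq_pow β (π m) key]
    rw [hβN _ _ (pow_mem hmN _)]
  obtain ⟨f, hf, hfN⟩ := hfive
  have hfL : π (f 0 * f 1 * f 2 * f 3 * f 4) = 1 := by
    refine hker.2 (hLP ⟨?_, hfN⟩)
    exact mul_mem (mul_mem (mul_mem (mul_mem (subset_closure (hf 0)) (subset_closure (hf 1)))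
      (subset_closure (hf 2))) (subset_closure (hf 3))) (subset_closure (hf 4))
  have hu : τ d = 1 := by
    have h5 : τ d ^ 5 = 1 := by
      have h' : τ (f 0 * f 1 * f 2 * f 3 * f 4) = 1 := by
        show MonoidHom.transfer β (π _) = 1
        rw [hfL, map_one]
      simp only [map_mul, hτc _ (hf _).1 d hd] at h'
      simpa [pow_succ] using h'
    have h2 : τ d ^ 2 = 1 := by rw [pow_two, ← map_mul, tt_mul_self h.cls.1 hd, map_one]
    rwa [show 5 = 2 * 2 + 1 from rfl, pow_succ, pow_mul, h2, one_pow, one_mul] at h5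
  intro m hm
  have hτ : τ m = 1 := by
    have hle : (⊤ : Subgroup G) ≤ τ.ker := by
      rw [← h.cls.2.2, closure_le]
      intro x hx
      rw [SetLike.mem_coe, MonoidHom.mem_ker, hτc x hx d hd, hu]
    exact hle (mem_top m)
  have hpow : π m ^ ψ.range.index = 1 := by rw [← hτN m hm, hτ, OneMemClass.coe_one]
  obtain ⟨k, hk⟩ := hN ⟨m, hm⟩
  have hk' : π m ^ 2 ^ k = 1 := by
    rw [← map_pow]
    have : m ^ 2 ^ k = 1 := by simpa [Subtype.ext_iff] using hk
    rw [this, map_one]
  have hg := pow_gcd_eq_one.2 ⟨hpow, hk'⟩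
  have hco : Nat.Coprime ψ.range.index (2 ^ k) :=
    (Nat.coprime_two_right.2 hidx).pow_right k
  rw [Nat.Coprime.gcd_eq_one hco, pow_one] at hg
  exact hker.1 hg

include hgen

/-- Main theorem. -/
theorem elementaryAbelian [Finite G] (hN : IsPGroup 2 N) {d : G} (hd : d ∈ D)
    (hodd : Odd (perpSub D d ⊔ N).index)
    (hfive : ∃ f : Fin 5 → G, (∀ i, f i ∈ D ∧ Commute (f i) d) ∧
      f 0 * f 1 * f 2 * f 3 * f 4 ∈ N) : IsElementaryAbelian 2 N := by
  set M : Subgroup G := closure {x | ∃ c ∈ D, x ∈ diffSub D N c} with hM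
  have hMN : M ≤ N := (closure_le _).2 fun x ⟨c, hc, hx⟩ => h.diff_le hc hx
  have hMmem : ∀ {c x : G}, c ∈ D → x ∈ diffSub D N c → x ∈ M := fun hc hx =>
    subset_closure ⟨_, hc, hx⟩
  have hMn : M.Normal := by
    refine ⟨fun x hx g => ?_⟩
    have hle : M.map (MulAut.conj g).toMonoidHom ≤ M := by
      rw [hM, MonoidHom.map_closure, closure_le]
      rintro _ ⟨y, ⟨c, hc, hy⟩, rfl⟩
      exact hMmem (class_conj_mem h.cls g hc) (h.diff_conj_mem g hy)
    exact hle ⟨x, hx, rfl⟩
  have hMX : ∀ {c x y : G}, c ∈ D → x ∈ diffSub D N c → y ∈ M → Commute x y := by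
    intro c x y hc hx hy
    have hle : M ≤ Subgroup.centralizer {x} := by
      rw [hM, closure_le]
      rintro z ⟨c', hc', hz⟩
      exact Subgroup.mem_centralizer_singleton_iff.2 (h.diff_commute hgen hc hc' hx hz).symm.eq
    exact (Subgroup.mem_centralizer_singleton_iff.1 (hle hy)).symm
  have hMc : ∀ n ∈ N, ∀ g : G, n * g * n⁻¹ * g⁻¹ ∈ M := by
    intro n hn g
    obtain ⟨π, hπ⟩ : ∃ π : G →* G ⧸ M, π = QuotientGroup.mk' M := ⟨_, rfl⟩
    have hker : ∀ {x : G}, π x = 1 ↔ x ∈ M := fun {x} => by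
      rw [hπ]; exact QuotientGroup.eq_one_iff x
    have hle : closure D ≤ (Subgroup.centralizer {π n}).comap π := by
      rw [closure_le]
      intro c hc
      show π c ∈ Subgroup.centralizer {π n}
      have h1 : π (n * c * n⁻¹ * c) = 1 := hker.2 (hMmem hc (h.comm_mem_diff hc hn))
      rw [Subgroup.mem_centralizer_singleton_iff]
      have e : n * c = n * c * n⁻¹ * c * (c * n) := by
        rw [mul_assoc (n * c * n⁻¹), ← mul_assoc c c, tt_mul_self h.cls.1 hc, one_mul,
          inv_mul_cancel_right]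
      rw [← map_mul, ← map_mul, e, map_mul π (n * c * n⁻¹ * c), h1, one_mul]
    rw [h.cls.2.2] at hle
    have := Subgroup.mem_centralizer_singleton_iff.1 (hle (mem_top g))
    rw [← hker, map_mul, map_mul, map_mul, map_inv, map_inv, ← this]
    group
  set P : Subgroup G := perpSub D d ⊓ N ⊔ M with hP
  have hPN : P ≤ N := sup_le inf_le_right hMN
  have hPc : ∀ n ∈ N, ∀ g : G, n * g * n⁻¹ * g⁻¹ ∈ P := fun n hn g => mem_sup_right (hMc n hn g)
  have hPn : P.Normal := by
    refine ⟨fun x hx g => ?_⟩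
    have := mul_mem (inv_mem (hPc x (hPN hx) g)) hx
    simpa [mul_assoc] using this
  have hNP : N ≤ P := h.le_perp hN P hPN hPc hd le_sup_left hodd hfive
  have hcd : ∀ n ∈ N, ∀ x ∈ diffSub D N d, Commute n x := by
    intro n hn x hx
    have hle : P ≤ Subgroup.centralizer {x} := by
      refine sup_le (inf_le_left.trans ?_) ?_
      · rw [perpSub, closure_le]
        rintro f ⟨hf, hfd⟩
        exact Subgroup.mem_centralizer_singleton_iff.2 (h.commute_diff hd hf hfd hx).eq
      · exact fun y hy => Subgroup.mem_centralizer_singleton_iff.2 (hMX hd hx hy).symm.eq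
    exact Subgroup.mem_centralizer_singleton_iff.1 (hle (hNP hn))
  have hMcen : ∀ n ∈ N, ∀ m ∈ M, Commute n m := by
    intro n hn m hm
    have hle : M ≤ Subgroup.centralizer {n} := by
      rw [hM, closure_le]
      rintro x ⟨c, hc, hx⟩
      obtain ⟨g, rfl⟩ := class_isConj h.cls hd hc
      have hx' := h.diff_conj_mem g⁻¹ hx
      rw [show g⁻¹ * (g * d * g⁻¹) * g⁻¹⁻¹ = d by group] at hx'
      have h1 := (hcd _ (h.normal.conj_mem n hn g⁻¹) _ hx').map (MulAut.conj g).toMonoidHom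
      simp only [MulEquiv.coe_toMonoidHom, MulAut.conj_apply] at h1
      rw [show g * (g⁻¹ * n * g⁻¹⁻¹) * g⁻¹ = n by group,
        show g * (g⁻¹ * x * g⁻¹⁻¹) * g⁻¹ = x by group] at h1
      exact Subgroup.mem_centralizer_singleton_iff.2 h1.symm.eq
    exact (Subgroup.mem_centralizer_singleton_iff.1 (hle hm)).symm
  have hconjM : ∀ n ∈ N, ∀ g : G, ∃ m ∈ M, g * n * g⁻¹ = m * n ∧ Commute m n := by
    intro n hn g
    refine ⟨g * n * g⁻¹ * n⁻¹, ?_, by group, (hMcen n hn _ ?_).symm⟩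
    all_goals
      have := inv_mem (hMc n hn g)
      simpa [mul_assoc] using this
  have hone : ∀ x : G, (∀ g : G, g * x * g⁻¹ = x) → x = 1 := by
    intro x hx
    have : x ∈ Subgroup.center G := Subgroup.mem_center_iff.2 fun g => by
      have := congrArg (· * g) (hx g)
      simpa using this
    rwa [h.center, mem_bot] at this
  have hab : ∀ a ∈ N, ∀ b ∈ N, Commute a b := by
    intro a ha b hb
    refine commutatorElement_eq_one_iff_commute.1 (hone _ fun g => ?_)
    obtain ⟨m, hm, hma, hcma⟩ := hconjM a ha g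
    obtain ⟨m', hm', hmb, hcmb⟩ := hconjM b hb g
    have hmm : Commute m m' := hMcen m (hMN hm) m' hm'
    have h1 : Commute m b := (hMcen b hb m hm).symm
    have h2 : Commute m' a := (hMcen a ha m' hm').symm
    calc g * ⁅a, b⁆ * g⁻¹ = ⁅g * a * g⁻¹, g * b * g⁻¹⁆ := by
          simp only [commutatorElement_def]; group
      _ = ⁅m * a, m' * b⁆ := by rw [hma, hmb]
      _ = ⁅a, b⁆ := by
          simp only [commutatorElement_def, mul_inv_rev]
          calc m * a * (m' * b) * (a⁻¹ * m⁻¹) * (b⁻¹ * m'⁻¹)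
              = m * (a * m') * b * a⁻¹ * m⁻¹ * b⁻¹ * m'⁻¹ := by group
            _ = m * m' * (a * b * a⁻¹) * m⁻¹ * b⁻¹ * m'⁻¹ := by rw [← h2.eq]; group
            _ = (a * b * a⁻¹) * (m * m') * m⁻¹ * b⁻¹ * m'⁻¹ := by
                rw [(((hMcen _ (mul_mem (mul_mem ha hb) (inv_mem ha)) (m * m')
                  (mul_mem hm hm'))).symm).eq]
            _ = (a * b * a⁻¹) * m' * b⁻¹ * m'⁻¹ := by rw [hmm.eq]; group
            _ = a * b * a⁻¹ * b⁻¹ := by
                rw [mul_assoc (a * b * a⁻¹), ← (hMcen b⁻¹ (inv_mem hb) m' hm').eq]; group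
  have hsq : ∀ a ∈ N, a ^ 2 = 1 := by
    intro a ha
    refine hone _ fun g => ?_
    obtain ⟨m, hm, hma, hcm⟩ := hconjM a ha g
    have hm2 : m * m = 1 := by
      clear hma hcm
      have hMcomm : ∀ u ∈ M, ∀ v ∈ M, Commute u v := fun u hu v hv => hMcen u (hMN hu) v hv
      induction hm using Subgroup.closure_induction with
      | mem x hx =>
        obtain ⟨c, hc, hx⟩ := hx
        induction hx using Subgroup.closure_induction with
        | mem y hy => exact h.diff_sq hc y hy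
        | one => exact mul_one 1
        | mul y z hy hz ihy ihz =>
          rw [(h.diff_commute hgen hc hc hz hy).mul_mul_mul_comm, ihy, ihz, mul_one]
        | inv y _ ih => rw [← mul_inv_rev, ih, inv_one]
      | one => exact mul_one 1
      | mul y z hy hz ihy ihz => rw [(hMcomm z hz y hy).mul_mul_mul_comm, ihy, ihz, mul_one]
      | inv y _ ih => rw [← mul_inv_rev, ih, inv_one]
    calc g * a ^ 2 * g⁻¹ = (g * a * g⁻¹) ^ 2 := conj_pow.symm
      _ = a ^ 2 := by rw [hma, hcm.mul_pow, pow_two m, hm2, one_mul]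
  exact ⟨⟨⟨fun a b => Subtype.ext (hab a a.2 b b.2)⟩⟩, fun a ha => hsq a ha⟩

end Setup

end H5.TT
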