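/-
The centraliser of a transvection in SU(7,2) and the quotient conditions for the radical.
-/
import Cfsg.Agent.H5.TT.UnitaryTwo

set_option autoImplicit false
set_option linter.unusedSectionVars false

namespace H5.TT.U2

open Matrix Cfsg H50

variable {F : Type*} [Field F] [Fintype F]

/-- The stabiliser of a vector. -/
def fixVec {n : ℕ} (a : Fin n → F) : Subgroup (SU n F 2) where
  carrier := {g | suMat g *ᵥ a = a}
  one_mem' := by simp [suMat_one]
  mul_mem' := fun {g g'} hg hg' => by
    simp only [Set.mem_ofPred_eq] at *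
    rw [suMat_mulVec_mul, hg', hg]
  inv_mem' := fun {g} hg => suMat_inv_fix hg

theorem mem_fixVec {n : ℕ} {a : Fin n → F} {g : SU n F 2} :
    g ∈ fixVec a ↔ suMat g *ᵥ a = a := Iff.rfl

variable (hF : Fintype.card F = 2 ^ 2)
include hF

/-- Seven coordinates: the concrete pair and the perp of the first member. -/
theorem closure_perpTr_eq {a : Fin 7 → F} (ha : a = Fin.cons 1 (Fin.cons 1 0)) :
    Subgroup.closure (perpTr a) = fixVec a := by
  refine le_antisymm ((Subgroup.closure_le _).2 ?_) fun g hg => ?_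
  · rintro A ⟨c, hc, hca⟩
    exact tr_fix hF hc ((h_eq_zero_comm hF).1 hca)
  obtain ⟨w, hw⟩ := exists_trace_eq hF (one_pow 2 : (1 : F) ^ 2 = 1)
  obtain ⟨f, hf⟩ : ∃ f : Fin 7 → F, f = Fin.cons w (Fin.cons (w ^ 2) 0) := ⟨_, rfl⟩
  have hcube : w ≠ 0 := by
    rintro rfl
    simp at hw
  have h4 : (w ^ 2) ^ 2 = w := pow_q_pow_q hF w
  have hh : IsHyp 2 a f := by
    refine ⟨?_, ?_, ?_⟩
    · rw [ha, h_cons, h_cons, h_zero_left]
      linear_combination add_self hF (1 : F)
    · rw [hf, h_cons, h_cons, h_zero_left]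
      linear_combination cube hF hcube + w ^ 2 * h4 + cube hF hcube - cube hF hcube + cube hF hcube
        + add_self hF (1 : F)
    · rw [ha, hf, h_cons, h_cons, h_zero_left]
      linear_combination hw + h4
  rw [mem_fixVec] at hg
  have hh' : IsHyp 2 a (suMat g *ᵥ f) := by
    refine ⟨hh.1, by rw [suMat_h, hh.2.1], ?_⟩
    conv_lhs => rw [← hg]
    rw [suMat_h, hh.2.2]
  obtain ⟨L, hL, hLf⟩ := exists_move hF (le_refl 7) hh hh'
  have hLa : suMat L *ᵥ a = a := by
    have hle : Subgroup.closure (perpTr a) ≤ fixVec a := by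
      rw [Subgroup.closure_le]
      rintro A ⟨c, hc, hca⟩
      exact tr_fix hF hc ((h_eq_zero_comm hF).1 hca)
    exact hle hL
  obtain ⟨g', hg'⟩ : ∃ g', g' = L⁻¹ * g := ⟨_, rfl⟩
  have e1 : suMat g' *ᵥ a = a := by rw [hg', suMat_mulVec_mul, hg, suMat_inv_fix hLa]
  have e2 : suMat g' *ᵥ f = f := by rw [hg', suMat_mulVec_mul, ← hLf, suMat_inv_mulVec]
  obtain ⟨d1, hd1⟩ : ∃ d : Fin 7 → F, d = Fin.cons 0 (Pi.single 0 1) := ⟨_, rfl⟩
  have hd1' : d1 = f + w • a := by
    rw [hd1, hf, ha]
    funext i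
    induction i using Fin.cases with
    | zero => simpa using (add_self hF w).symm
    | succ i =>
      induction i using Fin.cases with
      | zero =>
        simp
        linear_combination -hw
      | succ i => simp
  have hd0 : (Pi.single 0 1 : Fin 7 → F) = a + d1 := by
    rw [hd1, ha]
    funext i
    induction i using Fin.cases with
    | zero => simp
    | succ i =>
      induction i using Fin.cases with
      | zero => simpa using (add_self hF (1 : F)).symm
      | succ i => simp
  have e3 : suMat g' *ᵥ d1 = d1 := by rw [hd1', mulVec_add, mulVec_smul, e1, e2]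
  have e4 : suMat g' *ᵥ Pi.single 0 1 = Pi.single 0 1 := by rw [hd0, mulVec_add, e1, e3]
  obtain ⟨m, hm⟩ := mem_range_liftSU hF (n := 6) (g := g') e4
  rw [← hm, hd1, liftSU_mulVec] at e3
  obtain ⟨k, hk⟩ :=
    mem_range_liftSU hF (n := 5) (g := m) (Fin.cons_right_injective (α := fun _ => F) _ e3)
  have hle : Subgroup.closure (trSet 5 F) ≤
      (Subgroup.closure (perpTr a)).comap ((liftSU (n := 6)).comp (liftSU (n := 5))) := by
    rw [Subgroup.closure_le]
    rintro A ⟨v, hv⟩
    refine Subgroup.subset_closure ⟨Fin.cons 0 (Fin.cons 0 v), ⟨?_, ?_, ?_⟩, ?_⟩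
    · intro h0
      refine hv.1 (funext fun i => ?_)
      have := congrFun h0 i.succ.succ
      simpa using this
    · rw [h_cons, h_cons, hv.2.1]; ring
    · intro x
      rw [← Fin.cons_self_tail x, ← Fin.cons_self_tail (Fin.tail x)]
      simp only [MonoidHom.coe_comp, Function.comp_apply, liftSU_mulVec, hv.2.2, h_cons]
      funext i
      induction i using Fin.cases with
      | zero => simp
      | succ i =>
        induction i using Fin.cases with
        | zero => simp [Fin.tail]
        | succ i => simp [Fin.tail]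
    · rw [ha, h_cons, h_cons, h_zero_right hF]; ring
  have hk5 : k ∈ Subgroup.closure (trSet 5 F) :=
    transSub_le hF ((transSub_eq_top hF 5 (by omega) (by omega)).symm ▸ Subgroup.mem_top k)
  have hg'' := hle hk5
  rw [Subgroup.mem_comap, MonoidHom.comp_apply, hk, hm, hg'] at hg''
  have := mul_mem hL hg''
  rwa [mul_inv_cancel_left] at this

/-- There are an odd number of isotropic vectors in seven dimensions. -/
theorem fixVec_index_odd {a : Fin 7 → F} (ha0 : a ≠ 0) (ha : hermForm 7 F 2 a a = 0) :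
    Odd (fixVec a).index := by
  classical
  let φ : SU 7 F 2 ⧸ fixVec a → {v : Fin 7 → F // v ≠ 0 ∧ hermForm 7 F 2 v v = 0} :=
    Quotient.lift (fun g => ⟨suMat g *ᵥ a,
      fun h => ha0 ((SU_isIso g).injective hF (by rw [mulVec_zero]; exact h)),
      by rw [suMat_h, ha]⟩) (fun g g' h => by
        have hmem : g⁻¹ * g' ∈ fixVec a := QuotientGroup.leftRel_apply.1 h
        rw [mem_fixVec, suMat_mulVec_mul] at hmem
        refine Subtype.ext ?_
        have := congrArg (suMat g *ᵥ ·) hmem
        simp only [suMat_mulVec_inv] at this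
        exact this.symm)
  have hφ : Function.Bijective φ := by
    constructor
    · intro x y hxy
      induction x using QuotientGroup.induction_on with
      | H g =>
        induction y using QuotientGroup.induction_on with
        | H g' =>
          refine QuotientGroup.eq.2 ?_
          have : suMat g *ᵥ a = suMat g' *ᵥ a := congrArg Subtype.val hxy
          rw [mem_fixVec, suMat_mulVec_mul, ← this, suMat_inv_mulVec]
    · rintro ⟨v, hv0, hv⟩
      obtain ⟨t, -, ht⟩ := reach_isotropic hF (by omega) ha0 ha hv0 hv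
      exact ⟨QuotientGroup.mk t, Subtype.ext ht⟩
  have hidx : (fixVec a).index = Nat.card {v : Fin 7 → F // v ≠ 0 ∧ hermForm 7 F 2 v v = 0} :=
    Nat.card_eq_of_bijective φ hφ
  have hcnt : Nat.card {v : Fin 7 → F // hermForm 7 F 2 v v = 0} = 8128 := by
    have h := q_mul_norm_zero_count hF (n := 7) (F := F)
    rw [normCount] at h
    norm_num at h
    rw [Nat.card_eq_fintype_card]
    omega
  have hsum : Nat.card {v : Fin 7 → F // v ≠ 0 ∧ hermForm 7 F 2 v v = 0} + 1 = 8128 := by
    rw [← hcnt]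
    rw [Nat.card_eq_fintype_card, Nat.card_eq_fintype_card, Fintype.card_subtype,
      Fintype.card_subtype]
    have e : Finset.univ.filter (fun v : Fin 7 → F => v ≠ 0 ∧ hermForm 7 F 2 v v = 0) =
        (Finset.univ.filter (fun v : Fin 7 → F => hermForm 7 F 2 v v = 0)).erase 0 := by
      ext v
      simp [and_comm]
    rw [e]
    exact Finset.card_erase_add_one (by simp [h_zero_left])
  exact ⟨4063, by omega⟩

/-- Five pairwise commuting transvections with trivial product. -/
theorem exists_five {a : Fin 7 → F} (ha : a = Fin.cons 1 (Fin.cons 1 0)) :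
    ∃ A : Fin 5 → SU 7 F 2, (∀ i, A i ∈ perpTr a) ∧ A 0 * A 1 * A 2 * A 3 * A 4 = 1 := by
  obtain ⟨w, hw⟩ := exists_trace_eq hF (one_pow 2 : (1 : F) ^ 2 = 1)
  obtain ⟨b, hb⟩ : ∃ b : Fin 7 → F,
      b = Fin.cons 0 (Fin.cons 0 (Fin.cons 1 (Fin.cons 1 0))) := ⟨_, rfl⟩
  have d2 := add_self hF (1 : F)
  have haa : hermForm 7 F 2 a a = 0 := by
    rw [ha, h_cons, h_cons, h_zero_left]
    linear_combination d2
  have hbb : hermForm 7 F 2 b b = 0 := by
    rw [hb, h_cons, h_cons, h_cons, h_cons, h_zero_left]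
    linear_combination d2
  have hab : hermForm 7 F 2 a b = 0 := by
    rw [ha, hb, h_cons, h_cons, h_zero_left]
    ring
  have hba : hermForm 7 F 2 b a = 0 := (h_eq_zero_comm hF).1 hab
  have hiso : ∀ r s : F, ∀ r' s' : F, hermForm 7 F 2 (r • a + s • b) (r' • a + s' • b) = 0 := by
    intro r s r' s'
    simp [h_add_left, h_add_right hF, h_smul_left, h_smul_right hF, haa, hbb, hab, hba]
  have hne : ∀ r s : F, (r ≠ 0 ∨ s ≠ 0) → r • a + s • b ≠ 0 := by
    intro r s h h0
    have e0 : r = 0 := by simpa [ha, hb] using congrFun h0 0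
    subst e0
    have hb2 : b 2 = 1 := by rw [hb]; rfl
    have e2 : s = 0 := by simpa [hb2] using congrFun h0 2
    simp [e2] at h
  have hmk : ∀ r s : F, (r ≠ 0 ∨ s ≠ 0) → ∃ A, IsTr A (r • a + s • b) := fun r s h =>
    exists_tr hF (hne r s h) (hiso r s r s)
  obtain ⟨A0, h0⟩ := hmk 1 0 (Or.inl one_ne_zero)
  obtain ⟨A1, h1⟩ := hmk 0 1 (Or.inr one_ne_zero)
  obtain ⟨A2, h2⟩ := hmk 1 1 (Or.inl one_ne_zero)
  obtain ⟨A3, h3⟩ := hmk 1 w (Or.inl one_ne_zero)
  obtain ⟨A4, h4⟩ := hmk 1 (w ^ 2) (Or.inl one_ne_zero)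
  refine ⟨![A0, A1, A2, A3, A4], fun i => ?_, ?_⟩
  · have key : ∀ r s : F, hermForm 7 F 2 (r • a + s • b) a = 0 := fun r s => by
      simp [h_add_left, h_smul_left, haa, hba]
    fin_cases i
    exacts [⟨_, h0, key _ _⟩, ⟨_, h1, key _ _⟩, ⟨_, h2, key _ _⟩, ⟨_, h3, key _ _⟩,
      ⟨_, h4, key _ _⟩]
  · refine suMat_ext fun x => ?_
    have hw3 : w ^ 3 = 1 := cube hF (by rintro rfl; simp at hw)
    simp [suMat_mulVec_mul, h0.2.2, h1.2.2, h2.2.2, h3.2.2, h4.2.2, h_add_left, h_add_right hF,
      h_smul_left, h_smul_right hF, haa, hbb, hab, hba, suMat_one]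
    funext i
    simp only [Pi.add_apply, Pi.smul_apply, smul_eq_mul]
    generalize hermForm 7 F 2 x a = X
    generalize hermForm 7 F 2 x b = Y
    have hw4 : w ^ 4 = w := by rw [show w ^ 4 = w ^ 3 * w by ring, hw3, one_mul]
    linear_combination (2 * X * a i + Y * a i + Y * b i + X * b i) * d2
      + (Y * a i + X * b i) * hw + Y * a i * hw4 + Y * b i * hw3
      + Y * b i * (w ^ 3 + 1) * hw3 + Y * b i * d2

end H5.TT.U2
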